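import Cfsg.Agent.H192.Dp.Defs
import Cfsg.Agent.H395.Jordan

/-!
# From `T` to the almost simple groups with socle `T` (helper192, project S5734)

* `ders_nonempty` : Jordan's theorem;
* `card_le_mulAut` : `|G| ≤ |Aut N|` if `C_G(N) = 1`;
* `index_eq`, `card_ders_le` : `G = H N`;
* `logB_of_derN` : `DerN w R` for all proper `R`, `|Aut T| ≤ o |T|`, `ε w o ≤ log |T : R|` give `LogB ε T`;
* `logB_of_card_le` : a common `ε` for all `T` of bounded order.
-/

set_option autoImplicit false

namespace Cfsg.Agent.H192.Dp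

open Subgroup

variable {G : Type*} [Group G]

theorem mem_ders_iff_smul {H : Subgroup G} {g : G} : g ∈ ders H ↔ ∀ x : G ⧸ H, g • x ≠ x := by
  constructor
  · intro h x
    induction x using QuotientGroup.induction_on with
    | H y =>
      intro hxy
      have h1 : ((g * y : G) : G ⧸ H) = (y : G ⧸ H) := hxy
      rw [QuotientGroup.eq] at h1
      have h2 : y⁻¹ * g * y ∈ H := by
        have h3 := H.inv_mem h1
        have e : ((g * y)⁻¹ * y)⁻¹ = y⁻¹ * g * y := by group
        rwa [e] at h3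
      have h4 := h y⁻¹
      rw [inv_inv] at h4
      exact h4 h2
  · intro h x hx
    refine h ((x⁻¹ : G) : G ⧸ H) ?_
    show ((g * x⁻¹ : G) : G ⧸ H) = ((x⁻¹ : G) : G ⧸ H)
    rw [QuotientGroup.eq]
    have h3 := H.inv_mem hx
    have e : (x * g * x⁻¹)⁻¹ = (g * x⁻¹)⁻¹ * x⁻¹ := by group
    rwa [e] at h3

theorem ders_nonempty [Finite G] {H : Subgroup G} (hH : H ≠ ⊤) : (ders H).Nonempty := by
  have h2 : 2 ≤ Nat.card (G ⧸ H) := by
    have h1 : H.index ≠ 1 := fun h => hH (index_eq_one.1 h)
    have h3 : H.index ≠ 0 := index_ne_zero_of_finite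
    change 2 ≤ H.index
    omega
  obtain ⟨g, hg⟩ := H395.Jordan.exists_derangement (G := G) (X := G ⧸ H) inferInstance h2
  exact ⟨g, mem_ders_iff_smul.2 hg⟩

theorem one_le_card_ders [Finite G] {H : Subgroup G} (hH : H ≠ ⊤) : 1 ≤ Nat.card (ders H) := by
  obtain ⟨g, hg⟩ := ders_nonempty hH
  have : Nonempty (ders H) := ⟨⟨g, hg⟩⟩
  exact Nat.card_pos

theorem log_index_ge [Finite G] {H : Subgroup G} (hH : H ≠ ⊤) : Real.log 2 ≤ Real.log H.index := by
  have h1 : H.index ≠ 1 := fun h => hH (index_eq_one.1 h)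
  have h3 : H.index ≠ 0 := index_ne_zero_of_finite
  apply Real.log_le_log (by norm_num)
  have : 2 ≤ H.index := by omega
  exact_mod_cast this

section socle

variable [Finite G] {N : Subgroup G} [N.Normal] {H : Subgroup G}

theorem index_eq (h : H ⊔ N = ⊤) : H.index = (H.subgroupOf N).index := by
  have h1 : N.relIndex H = N.index := by
    rw [← relIndex_sup_right H N, h, relIndex_top_right]
  have h2 : Nat.card (N.subgroupOf H) * N.index = Nat.card H := by
    rw [← h1]
    exact Subgroup.card_mul_index (N.subgroupOf H)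
  have h3 : Nat.card (N.subgroupOf H) = Nat.card (H.subgroupOf N) := by
    have e1 : Nat.card (N.subgroupOf H) = Nat.card (N ⊓ H : Subgroup G) := by
      rw [← Subgroup.subgroupOf_map_subtype]
      exact (Subgroup.card_map_of_injective H.subtype_injective).symm
    have e2 : Nat.card (H.subgroupOf N) = Nat.card (H ⊓ N : Subgroup G) := by
      rw [← Subgroup.subgroupOf_map_subtype]
      exact (Subgroup.card_map_of_injective N.subtype_injective).symm
    rw [e1, e2, inf_comm]
  have h4 := Subgroup.card_mul_index H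
  have h5 := Subgroup.card_mul_index N
  have h6 := Subgroup.card_mul_index (H.subgroupOf N)
  have h7 : 0 < N.index := Nat.pos_of_ne_zero index_ne_zero_of_finite
  have h8 : 0 < Nat.card (H.subgroupOf N) := Nat.card_pos
  rw [← h2, h3] at h4
  rw [← h5, ← h6] at h4
  have h9 : (Nat.card (H.subgroupOf N) * N.index) * H.index =
      (Nat.card (H.subgroupOf N) * N.index) * (H.subgroupOf N).index := by
    rw [h4]; ring
  exact Nat.eq_of_mul_eq_mul_left (Nat.mul_pos h8 h7) h9

omit [Finite G] in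
theorem mem_ders_of_sub (h : H ⊔ N = ⊤) {t : N} (ht : t ∈ ders (H.subgroupOf N)) : (t : G) ∈ ders H := by
  intro x hx
  have hx' : x ∈ H ⊔ N := h ▸ mem_top x
  rw [← SetLike.mem_coe, mul_normal] at hx'
  obtain ⟨y, hy, n, hn, rfl⟩ := Set.mem_mul.1 hx'
  refine ht ⟨n, hn⟩ ?_
  rw [mem_subgroupOf]
  have h1 := H.mul_mem (H.mul_mem (H.inv_mem hy) hx) hy
  have e : y⁻¹ * (y * n * t * (y * n)⁻¹) * y = n * t * n⁻¹ := by group
  rw [e] at h1
  exact h1

theorem card_ders_le (h : H ⊔ N = ⊤) : Nat.card (ders (H.subgroupOf N)) ≤ Nat.card (ders H) :=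
  Nat.card_le_card_of_injective (fun t => (⟨(t : N), mem_ders_of_sub h t.2⟩ : ders H)) fun a b hab => by
    have h1 : ((a : N) : G) = ((b : N) : G) := congrArg (fun z : ders H => (z : G)) hab
    exact Subtype.ext (Subtype.ext h1)

omit [Finite G] [N.Normal] in
theorem subgroupOf_ne_top (h : H ⊔ N = ⊤) (hH : H ≠ ⊤) : H.subgroupOf N ≠ ⊤ := by
  intro h1
  rw [subgroupOf_eq_top] at h1
  exact hH (by rw [← h, sup_eq_left.2 h1])

theorem card_le_mulAut (hC : centralizer (N : Set G) = ⊥) : Nat.card G ≤ Nat.card (MulAut N) := by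
  refine Nat.card_le_card_of_injective (MulAut.conjNormal (H := N)) ?_
  rw [← MonoidHom.ker_eq_bot_iff, eq_bot_iff, ← hC]
  intro g hg
  rw [MonoidHom.mem_ker] at hg
  rw [mem_centralizer_iff]
  intro n hn
  have h1 := congrArg (fun f => ((f ⟨n, hn⟩ : N) : G)) hg
  simp only [MulAut.conjNormal_apply, MulAut.one_apply] at h1
  exact (mul_inv_eq_iff_eq_mul.1 h1).symm

end socle

theorem card_mulAut_congr {T S : Type*} [Group T] [Group S] (e : T ≃* S) : Nat.card (MulAut T) = Nat.card (MulAut S) :=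
  Nat.card_congr (MulAut.congr e).toEquiv

theorem ders_comap {T S : Type*} [Group T] [Group S] (e : T ≃* S) (R : Subgroup S) :
    Nat.card (ders (R.comap e.toMonoidHom)) = Nat.card (ders R) := by
  refine Nat.card_congr (e.toEquiv.subtypeEquiv fun g => ?_)
  constructor
  · intro h x hx
    refine h (e.symm x) ?_
    simpa using hx
  · intro h x hx
    refine h (e x) ?_
    simpa using hx

theorem derN_comap {T S : Type*} [Group T] [Group S] (e : T ≃* S) {R : Subgroup S} {w : ℕ} :
    DerN w (R.comap e.toMonoidHom) ↔ DerN w R := by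
  unfold DerN
  rw [ders_comap, Nat.card_congr e.toEquiv]

theorem index_comap_equiv {T S : Type*} [Group T] [Group S] (e : T ≃* S) (R : Subgroup S) :
    (R.comap e.toMonoidHom).index = R.index := index_comap_of_surjective R e.surjective

theorem comap_ne_top {T S : Type*} [Group T] [Group S] (e : T ≃* S) {R : Subgroup S} (h : R ≠ ⊤) :
    R.comap e.toMonoidHom ≠ ⊤ := by
  intro h1
  apply h
  have h2 := index_comap_equiv e R
  rw [h1, index_top] at h2
  exact index_eq_one.1 h2.symm

/-- **`T`-level bounds suffice.** -/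
theorem logB_of_derN {T : Type*} [Group T] [Finite T] {w o : ℕ} {ε : ℝ} (hε : 0 ≤ ε)
    (hA : Nat.card (MulAut T) ≤ o * Nat.card T)
    (hw : ∀ R : Subgroup T, R ≠ ⊤ → DerN w R ∧ ε * (w * o) ≤ Real.log R.index) : LogB ε T := by
  intro G _ _ N _ ⟨e⟩ hC H hHN hH
  have hR := subgroupOf_ne_top hHN hH
  have hR' : (H.subgroupOf N).comap e.symm.toMonoidHom ≠ ⊤ := comap_ne_top e.symm hR
  obtain ⟨h1, h2⟩ := hw _ hR'
  rw [derN_comap] at h1
  rw [index_comap_equiv, ← index_eq hHN] at h2
  have h3 : Nat.card G ≤ o * Nat.card N := by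
    refine (card_le_mulAut hC).trans ?_
    rw [card_mulAut_congr e, Nat.card_congr e.toEquiv]
    exact hA
  have h4 : Nat.card G ≤ o * (w * Nat.card (ders H)) :=
    h3.trans (Nat.mul_le_mul_left _ (le_trans h1 (Nat.mul_le_mul_left _ (card_ders_le hHN))))
  have h5 : (Nat.card G : ℝ) ≤ o * (w * Nat.card (ders H)) := by exact_mod_cast h4
  calc ε * Nat.card G ≤ ε * (o * (w * Nat.card (ders H))) := mul_le_mul_of_nonneg_left h5 hε
    _ = ε * (w * o) * Nat.card (ders H) := by ring
    _ ≤ Real.log H.index * Nat.card (ders H) := mul_le_mul_of_nonneg_right h2 (Nat.cast_nonneg _)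

/-- the same with `LogT`. -/
theorem logB_of_logT {T : Type*} [Group T] [Finite T] {o : ℕ} {ε δ : ℝ} (hδ : 0 ≤ δ) (hε : δ * o ≤ ε)
    (hA : Nat.card (MulAut T) ≤ o * Nat.card T) (hw : LogT ε T) : LogB δ T := by
  intro G _ _ N _ ⟨e⟩ hC H hHN hH
  have hR := subgroupOf_ne_top hHN hH
  have hR' : (H.subgroupOf N).comap e.symm.toMonoidHom ≠ ⊤ := comap_ne_top e.symm hR
  have h1 := hw _ hR'
  rw [index_comap_equiv, ← index_eq hHN, ders_comap] at h1
  have h3 : Nat.card G ≤ o * Nat.card T := (card_le_mulAut hC).trans (by rw [card_mulAut_congr e]; exact hA)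
  have h5 : (Nat.card G : ℝ) ≤ o * Nat.card T := by exact_mod_cast h3
  have h6 : (0 : ℝ) ≤ Real.log H.index := by
    apply Real.log_natCast_nonneg
  calc δ * Nat.card G ≤ δ * (o * Nat.card T) := mul_le_mul_of_nonneg_left h5 hδ
    _ = δ * o * Nat.card T := by ring
    _ ≤ ε * Nat.card T := mul_le_mul_of_nonneg_right hε (Nat.cast_nonneg _)
    _ ≤ Real.log H.index * Nat.card (ders (H.subgroupOf N)) := h1
    _ ≤ Real.log H.index * Nat.card (ders H) :=
      mul_le_mul_of_nonneg_left (by exact_mod_cast card_ders_le hHN) h6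

theorem card_mulAut_le (T : Type*) [Group T] [Finite T] : Nat.card (MulAut T) ≤ (Nat.card T).factorial := by
  classical
  have : Fintype T := Fintype.ofFinite T
  calc Nat.card (MulAut T) ≤ Nat.card (Equiv.Perm T) :=
        Nat.card_le_card_of_injective (fun f : MulAut T => f.toEquiv) fun f g h => by
          apply MulEquiv.ext
          intro x
          exact congrArg (fun e : Equiv.Perm T => e x) h
    _ = _ := by rw [Nat.card_eq_fintype_card, Fintype.card_perm, Nat.card_eq_fintype_card]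

/-- **Bounded order.** -/
theorem logB_of_card_le (B : ℕ) : ∃ ε : ℝ, 0 < ε ∧ ∀ (T : Type) [Group T] [Finite T], Nat.card T ≤ B → LogB ε T := by
  refine ⟨Real.log 2 / (B.factorial : ℝ), div_pos (Real.log_pos (by norm_num)) (by positivity), ?_⟩
  intro T _ _ hT G _ _ N _ ⟨e⟩ hC H hHN hH
  have h1 : Nat.card G ≤ B.factorial := by
    refine (card_le_mulAut hC).trans ?_
    rw [card_mulAut_congr e]
    exact (card_mulAut_le T).trans (Nat.factorial_le hT)
  have h2 : (Nat.card G : ℝ) ≤ (B.factorial : ℝ) := by exact_mod_cast h1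
  have h3 : (0 : ℝ) < (B.factorial : ℝ) := by positivity
  have h4 : (1 : ℝ) ≤ Nat.card (ders H) := by exact_mod_cast one_le_card_ders hH
  have h5 : (0 : ℝ) < Real.log 2 := Real.log_pos (by norm_num)
  calc Real.log 2 / (B.factorial : ℝ) * Nat.card G ≤ Real.log 2 / (B.factorial : ℝ) * B.factorial :=
        mul_le_mul_of_nonneg_left h2 (div_nonneg h5.le h3.le)
    _ = Real.log 2 * 1 := by field_simp
    _ ≤ Real.log H.index * Nat.card (ders H) :=
      mul_le_mul (log_index_ge hH) h4 (by norm_num) (h5.le.trans (log_index_ge hH))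

theorem LogB.mono {T : Type*} [Group T] {δ ε : ℝ} (h : LogB ε T) (hδ : δ ≤ ε) : LogB δ T := by
  intro G _ _ N _ e hC H hHN hH
  exact (mul_le_mul_of_nonneg_right hδ (Nat.cast_nonneg _)).trans (h G N e hC H hHN hH)

end Cfsg.Agent.H192.Dp
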